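import Groth.Agent.StkLocal.Vert
import Groth.Agent.Fib.Transfer

/-!
Full subcategories of stacks cut out by a local property of objects.
-/

set_option autoImplicit false
set_option backward.isDefEq.respectTransparency false
set_option backward.isDefEq.respectTransparency.types false

open CategoryTheory CategoryTheory.Functor

universe v₂ u₂ v u

namespace Groth.Agent.StkLocal

variable {C : Type u} [Category.{v} C] {𝒳 : BasedCategory.{v, max u v} C}
  (Q : ObjectProperty 𝒳.obj)

/-- The full subcategory on a property. -/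
abbrev subCat : BasedCategory.{v, max u v} C := BasedCategory.ofFunctor (Q.ι ⋙ 𝒳.p)

/-- Its inclusion. -/
def subInc : subCat Q ⥤ᵇ 𝒳 where
  toFunctor := Q.ι
  w := rfl

instance : (subInc Q).toFunctor.Full := ObjectProperty.full_ι Q

instance : (subInc Q).toFunctor.Faithful := ObjectProperty.faithful_ι Q

/-- Postcomposition with the inclusion. -/
def subPost (𝒜 : BasedCategory.{v₂, u₂} C) : (𝒜 ⥤ᵇ subCat Q) ⥤ (𝒜 ⥤ᵇ 𝒳) where
  obj G := BasedFunctor.comp G (subInc Q)
  map α := BasedCategory.whiskerRight α (subInc Q)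
  map_id G := Fib.hom_ext' fun a => (subInc Q).toFunctor.map_id _
  map_comp α β := Fib.hom_ext' fun a => (subInc Q).toFunctor.map_comp _ _

instance (𝒜 : BasedCategory.{v₂, u₂} C) : (subPost Q 𝒜).Faithful where
  map_injective {G H} α β h := Fib.hom_ext' fun a => (subInc Q).toFunctor.map_injective
    (congrArg (fun t => t.toNatTrans.app a) h)

instance (𝒜 : BasedCategory.{v₂, u₂} C) : (subPost Q 𝒜).Full where
  map_surjective {G H} α :=
    ⟨{ app := fun a => ObjectProperty.homMk (α.toNatTrans.app a)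
       naturality := fun a b φ => ObjectProperty.hom_ext _ (α.toNatTrans.naturality φ)
       isHomLift' := fun a => (BasedFunctor.isHomLift_iff (subInc Q) _ _).1 (α.isHomLift' a) },
      Fib.hom_ext' fun a => rfl⟩

theorem isStack_subCat {J : GrothendieckTopology C} (h𝒳 : Stk.IsStack J 𝒳)
    (h1 : ∀ ⦃y x : 𝒳.obj⦄ (φ : y ⟶ x), Q x → ∃ (y' : 𝒳.obj) (e : y ≅ y'), Q y' ∧ 𝒳.p.IsHomLift (𝟙 (𝒳.p.obj y)) e.hom)
    (h3 : ∀ ⦃U : C⦄ (R : Sieve U), R ∈ J U → ∀ (x : 𝒳.obj), 𝒳.p.obj x = U →
      (∀ ⦃V : C⦄ (f : V ⟶ U), R f → ∀ (y : 𝒳.obj) (φ : y ⟶ x), 𝒳.p.IsHomLift f φ →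
        ∃ (y' : 𝒳.obj) (e : y ≅ y'), Q y' ∧ 𝒳.p.IsHomLift (𝟙 V) e.hom) →
      ∃ (x' : 𝒳.obj) (e : x ≅ x'), Q x' ∧ 𝒳.p.IsHomLift (𝟙 U) e.hom) :
    Stk.IsStack J (subCat Q) := by
  refine ⟨⟨fun {x V} f => ?_, fun {a b} φ => ?_⟩, fun U R hR => ?_⟩
  · obtain ⟨y, ψ, hψ⟩ := h𝒳.1.exists_lift (x := x.obj) f
    obtain ⟨y', e, hy', he⟩ := h1 ψ x.property
    have hy : 𝒳.p.obj y = V := IsHomLift.domain_eq 𝒳.p f ψ
    haveI : 𝒳.p.IsHomLift f ψ := hψ
    haveI : 𝒳.p.IsHomLift (𝟙 V) e.hom := hy ▸ he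
    haveI : 𝒳.p.IsHomLift (𝟙 V) e.inv := IsHomLift.lift_id_inv _ _ e
    let φ : (⟨y', hy'⟩ : (subCat Q).obj) ⟶ x := ObjectProperty.homMk (e.inv ≫ ψ)
    exact ⟨_, φ, (BasedFunctor.isHomLift_iff (subInc Q) f φ).1
      (inferInstanceAs (𝒳.p.IsHomLift f (e.inv ≫ ψ)))⟩
  · exact Fib.isStronglyCartesian_of_map (subInc Q) _ φ (h𝒳.1.isStronglyCartesian φ.hom)
  · haveI hX : (Stk.resSieve R 𝒳).IsEquivalence := h𝒳.2 R hR
    let sq : Stk.resSieve R (subCat Q) ⋙ subPost Q (Stk.sieveCat R) ≅
        subPost Q (FibCat.overCat U) ⋙ Stk.resSieve R 𝒳 := eqToIso rfl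
    haveI : (subPost Q (FibCat.overCat U) ⋙ Stk.resSieve R 𝒳).Full := inferInstance
    haveI : (subPost Q (FibCat.overCat U) ⋙ Stk.resSieve R 𝒳).Faithful := inferInstance
    haveI : (Stk.resSieve R (subCat Q) ⋙ subPost Q (Stk.sieveCat R)).Full := Functor.Full.of_iso sq.symm
    haveI : (Stk.resSieve R (subCat Q) ⋙ subPost Q (Stk.sieveCat R)).Faithful :=
      Functor.Faithful.of_iso sq.symm
    exact
      { faithful := Functor.Faithful.of_comp (Stk.resSieve R (subCat Q)) (subPost Q (Stk.sieveCat R))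
        full := Functor.Full.of_comp_faithful (Stk.resSieve R (subCat Q)) (subPost Q (Stk.sieveCat R))
        essSurj := ⟨fun H => by
          let G := (Stk.resSieve R 𝒳).objPreimage ((subPost Q _).obj H)
          let i := (Stk.resSieve R 𝒳).objObjPreimageIso ((subPost Q _).obj H)
          obtain ⟨x', ex, hx', -⟩ := h3 R hR (G.obj (Over.mk (𝟙 U))) (G.w_obj _) fun V f hf y φ hφ => by
            let b : (Stk.sieveCat R).obj := ⟨Over.mk f, hf⟩
            haveI := hφ
            haveI : 𝒳.p.IsHomLift f (G.map (Fib.toId (Over.mk f))) :=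
              Fib.map_toId_isHomLift G (Over.mk f)
            obtain ⟨j, hj⟩ := exists_iso h𝒳.1 f φ (G.map (Fib.toId (Over.mk f)))
            haveI := hj
            haveI : 𝒳.p.IsHomLift (𝟙 V) (Fib.appIso i b).hom := BasedNatTrans.isHomLift i.hom rfl
            refine ⟨(H.obj b).obj, j ≪≫ Fib.appIso i b, (H.obj b).property, ?_⟩
            exact inferInstanceAs (𝒳.p.IsHomLift (𝟙 V) (j.hom ≫ (Fib.appIso i b).hom))
          have hE : ∀ a : Over U, ∃ (y : 𝒳.obj) (e : G.obj a ≅ y), Q y ∧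
              𝒳.p.IsHomLift (𝟙 a.left) e.hom := by
            intro a
            obtain ⟨y, e, hy, he⟩ := h1 (G.map (Fib.toId a) ≫ ex.hom) hx'
            have e0 : 𝒳.p.obj (G.obj a) = a.left := G.w_obj a
            exact ⟨y, e, hy, e0 ▸ he⟩
          choose y e hy he using hE
          let G' : FibCat.overCat U ⥤ᵇ subCat Q :=
            { toFunctor :=
                { obj := fun a => ⟨y a, hy a⟩
                  map := fun {a b} φ => ObjectProperty.homMk ((e a).inv ≫ G.map φ ≫ (e b).hom)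
                  map_id := fun a => ObjectProperty.hom_ext _ (by simp; rfl)
                  map_comp := fun {a b c} φ ψ => ObjectProperty.hom_ext _ (by
                    show (e a).inv ≫ G.map (φ ≫ ψ) ≫ (e c).hom = ((e a).inv ≫ G.map φ ≫ (e b).hom) ≫ (e b).inv ≫ G.map ψ ≫ (e c).hom
                    simp) }
              w := CategoryTheory.Functor.ext
                (fun (a : Over U) => by
                  haveI := he a
                  exact IsHomLift.codomain_eq 𝒳.p (𝟙 a.left) (e a).hom)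
                (fun (a b : Over U) φ => by
                  haveI := he a
                  haveI := he b
                  haveI : 𝒳.p.IsHomLift (𝟙 a.left) (e a).inv := IsHomLift.lift_id_inv _ _ (e a)
                  haveI : (FibCat.overCat U).p.IsHomLift φ.left φ := IsHomLift.map (FibCat.overCat U).p φ
                  haveI : 𝒳.p.IsHomLift φ.left (G.map φ) := inferInstance
                  exact IsHomLift.fac' 𝒳.p φ.left ((e a).inv ≫ G.map φ ≫ (e b).hom)) }
          let t : (subPost Q _).obj G' ≅ G := Fib.isoMk (fun a => (e a).symm)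
            (fun {a b} φ => by
              show ((e a).inv ≫ G.map φ ≫ (e b).hom) ≫ (e b).inv = (e a).inv ≫ G.map φ
              simp)
            (fun (a : Over U) => by
              haveI := he a
              exact inferInstanceAs (𝒳.p.IsHomLift (𝟙 a.left) (e a).inv))
          exact ⟨G', ⟨(subPost Q _).preimageIso (sq.app G' ≪≫ (Stk.resSieve R 𝒳).mapIso t ≪≫ i)⟩⟩⟩ }

end Groth.Agent.StkLocal
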