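import Groth.Prelude.Def_AlgSt
import Groth.Agent.Fib.Yoneda

/-!
Vertical endomorphisms in a stack which are locally trivial are trivial.
-/

set_option autoImplicit false
set_option backward.isDefEq.respectTransparency false
set_option backward.isDefEq.respectTransparency.types false

open CategoryTheory CategoryTheory.Functor

universe v u

namespace Groth.Agent.StkLocal

variable {C : Type u} [Category.{v} C] {J : GrothendieckTopology C} {𝒳 : BasedCategory.{v, max u v} C}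

theorem eq_id_of_local (h : Stk.IsStack J 𝒳) {U : C} {a : 𝒳.obj} (hU : 𝒳.p.obj a = U) (α : a ⟶ a)
    [𝒳.p.IsHomLift (𝟙 U) α] (R : Sieve U) (hR : R ∈ J U)
    (hloc : ∀ ⦃V : C⦄ (f : V ⟶ U), R f → ∀ (a' : 𝒳.obj) (l : a' ⟶ a), 𝒳.p.IsHomLift f l →
      ∀ β : a' ⟶ a', 𝒳.p.IsHomLift (𝟙 V) β → β ≫ l = l ≫ α → β = 𝟙 a') :
    α = 𝟙 a := by
  haveI := Fib.isFibered_of_isFibGrpd _ h.1
  obtain ⟨H, hH, e, he⟩ := Fib.exists_basedFunctor (𝒳 := 𝒳) ⟨a, hU⟩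
  haveI := he
  haveI : 𝒳.p.IsHomLift (𝟙 U) e.inv := IsHomLift.lift_id_inv _ _ e
  haveI : 𝒳.p.IsHomLift (𝟙 U) (e.hom ≫ α ≫ e.inv) := inferInstance
  obtain ⟨β, hβ⟩ := Fib.exists_natTrans_app_id (G := H) (H := H) hH (e.hom ≫ α ≫ e.inv)
  have hβ1 : β = 𝟙 H := by
    haveI : (Stk.resSieve R 𝒳).IsEquivalence := h.2 R hR
    refine (Stk.resSieve R 𝒳).map_injective (Fib.hom_ext' fun s => ?_)
    show β.toNatTrans.app s.obj = 𝟙 _
    haveI hl : 𝒳.p.IsHomLift s.obj.hom (H.map (Fib.toId s.obj)) := Fib.map_toId_isHomLift H s.obj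
    haveI : 𝒳.p.IsHomLift s.obj.hom (H.map (Fib.toId s.obj) ≫ e.hom) := inferInstance
    refine hloc s.obj.hom s.property (H.obj s.obj) (H.map (Fib.toId s.obj) ≫ e.hom) inferInstance _
      (BasedNatTrans.isHomLift β rfl) ?_
    rw [← Category.assoc, ← β.toNatTrans.naturality, hβ]
    simp
  have h2 : e.hom ≫ α ≫ e.inv = 𝟙 _ := by rw [← hβ, hβ1]; rfl
  have := congrArg (fun t => e.inv ≫ t ≫ e.hom) h2
  simpa using this

/-- Parallel vertical morphisms differ by a vertical endomorphism. -/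
theorem exists_endo (h : FibCat.IsFibGrpd 𝒳.p) {R S : C} {a b : 𝒳.obj} (f : R ⟶ S) (φ ψ : a ⟶ b)
    [𝒳.p.IsHomLift f φ] [𝒳.p.IsHomLift f ψ] :
    ∃ α : a ⟶ a, 𝒳.p.IsHomLift (𝟙 R) α ∧ α ≫ ψ = φ := by
  haveI := Fib.isStronglyCartesian_of_isFibGrpd _ h f ψ
  obtain ⟨α, hα, -⟩ := IsStronglyCartesian.universal_property 𝒳.p f ψ (𝟙 R) f (Category.id_comp f).symm φ
  exact ⟨α, hα⟩

/-- Two lifts of the same arrow with the same target have uniquely isomorphic sources. -/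
theorem exists_iso (h : FibCat.IsFibGrpd 𝒳.p) {R S : C} {x y b : 𝒳.obj} (f : R ⟶ S) (φ : x ⟶ b)
    (ψ : y ⟶ b) [𝒳.p.IsHomLift f φ] [𝒳.p.IsHomLift f ψ] :
    ∃ i : x ≅ y, 𝒳.p.IsHomLift (𝟙 R) i.hom := by
  haveI := Fib.isStronglyCartesian_of_isFibGrpd _ h f ψ
  obtain ⟨α, ⟨hα, -⟩, -⟩ := IsStronglyCartesian.universal_property 𝒳.p f ψ (𝟙 R) f (Category.id_comp f).symm φ
  haveI := hα
  haveI := Fib.isStronglyCartesian_of_isFibGrpd _ h (𝟙 R) α
  haveI : IsIso α := IsStronglyCartesian.isIso_of_base_isIso 𝒳.p (𝟙 R) α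
  exact ⟨asIso α, hα⟩

end Groth.Agent.StkLocal
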