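import Groth.Agent.StkLocal.Vert

/-! Gluing along a coarser sieve. -/

set_option autoImplicit false
set_option linter.all false
set_option backward.isDefEq.respectTransparency false
set_option backward.isDefEq.respectTransparency.types false

open CategoryTheory CategoryTheory.Functor

universe v u

namespace Groth.Agent.StkLocal

variable {C : Type u} [Category.{v} C] {𝒳 : BasedCategory.{v, max u v} C} {U : C} {S R : Sieve U}

/-- An arrow of `R` as a functor out of the slice of its source. -/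
def sliceTo {V : C} (f : V ⟶ U) (hf : R f) : FibCat.overCat V ⥤ᵇ Stk.sieveCat R where
  toFunctor :=
    { obj := fun a => ⟨Over.mk (a.hom ≫ f), R.downward_closed hf a.hom⟩
      map := fun {a b} φ => ObjectProperty.homMk (Over.homMk φ.left (by
        show φ.left ≫ b.hom ≫ f = a.hom ≫ f
        rw [← Category.assoc, Over.w φ])) }
  w := rfl

/-- The pulled-back sieve as a category over the sieve. -/
def pullTo {V : C} (f : V ⟶ U) (S : Sieve U) : Stk.sieveCat (S.pullback f) ⥤ᵇ Stk.sieveCat S where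
  toFunctor :=
    { obj := fun a => ⟨Over.mk (a.obj.hom ≫ f), a.property⟩
      map := fun {a b} φ => ObjectProperty.homMk (Over.homMk φ.hom.left (by
        show φ.hom.left ≫ b.obj.hom ≫ f = a.obj.hom ≫ f
        rw [← Category.assoc, Over.w φ.hom])) }
  w := rfl

/-- The inclusion of a finer sieve. -/
def sieveLE (h : S ≤ R) : Stk.sieveCat S ⥤ᵇ Stk.sieveCat R where
  toFunctor :=
    { obj := fun a => ⟨a.obj, h _ a.property⟩
      map := fun φ => ObjectProperty.homMk φ.hom }
  w := rfl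

theorem isStackFor_refine (h𝒳 : FibCat.IsFibGrpd 𝒳.p) (hSR : S ≤ R) (hS : Stk.IsStackFor S 𝒳)
    (hR : ∀ ⦃V : C⦄ (f : V ⟶ U), R f → Stk.IsPrestackFor (S.pullback f) 𝒳) :
    Stk.IsStackFor R 𝒳 := by
  haveI hE : (Stk.resSieve S 𝒳).IsEquivalence := hS
  let sq : Stk.resSieve R 𝒳 ⋙ Stk.restr (sieveLE hSR) 𝒳 ≅ Stk.resSieve S 𝒳 := eqToIso rfl
  let T := Stk.restr (sieveLE hSR) 𝒳
  -- the unique extension of a morphism to an object of `R`
  have main : ∀ (H H' : Stk.sieveCat R ⥤ᵇ 𝒳) (γ : T.obj H ⟶ T.obj H') (a : (Stk.sieveCat R).obj),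
      ∃! m : H.obj a ⟶ H'.obj a, 𝒳.p.IsHomLift (𝟙 a.obj.left) m ∧
        ∀ (c : (Stk.sieveCat S).obj) (φ : (sieveLE hSR).obj c ⟶ a),
          H.map φ ≫ m = γ.toNatTrans.app c ≫ H'.map φ := by
    intro H H' γ a
    let V := a.obj.left
    let j := sliceTo (R := R) a.obj.hom a.property
    let G := BasedFunctor.comp j H
    let G' := BasedFunctor.comp j H'
    obtain ⟨hfull, hfaith⟩ := hR a.obj.hom a.property
    let Γ : (Stk.resSieve (S.pullback a.obj.hom) 𝒳).obj G ⟶ (Stk.resSieve (S.pullback a.obj.hom) 𝒳).obj G' :=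
      { app := fun b => γ.toNatTrans.app ((pullTo a.obj.hom S).obj b)
        naturality := fun b b' φ => γ.toNatTrans.naturality ((pullTo a.obj.hom S).map φ)
        isHomLift' := fun b => γ.isHomLift' ((pullTo a.obj.hom S).obj b) }
    obtain ⟨Γ', hΓ'⟩ := (Stk.resSieve (S.pullback a.obj.hom) 𝒳).map_surjective Γ
    let i : j.obj (Over.mk (𝟙 V)) ≅ a :=
      ObjectProperty.isoMk _ (Over.isoMk (Iso.refl _) (by
        show 𝟙 _ ≫ a.obj.hom = 𝟙 _ ≫ a.obj.hom
        rfl))
    have hi : (Stk.sieveCat R).p.IsHomLift (𝟙 V) i.hom := IsHomLift.map (Stk.sieveCat R).p i.hom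
    have hi' : (Stk.sieveCat R).p.IsHomLift (𝟙 V) i.inv := IsHomLift.map (Stk.sieveCat R).p i.inv
    have hm : 𝒳.p.IsHomLift (𝟙 V) (Γ'.toNatTrans.app (Over.mk (𝟙 V))) := BasedNatTrans.isHomLift Γ' rfl
    haveI hH : FibCat.PreservesStronglyCartesian G' := Fib.preservesStronglyCartesian G' h𝒳
    refine ⟨H.map i.inv ≫ Γ'.toNatTrans.app (Over.mk (𝟙 V)) ≫ H'.map i.hom, ⟨?_, ?_⟩, ?_⟩
    · haveI := hm
      haveI := hi
      haveI := hi'
      haveI : 𝒳.p.IsHomLift (𝟙 V) (H.map i.inv) := inferInstance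
      haveI : 𝒳.p.IsHomLift (𝟙 V) (H'.map i.hom) := inferInstance
      infer_instance
    · intro c φ
      let b : (Stk.sieveCat (S.pullback a.obj.hom)).obj := ⟨Over.mk φ.hom.left, by
        show S (φ.hom.left ≫ a.obj.hom)
        rw [show φ.hom.left ≫ a.obj.hom = c.obj.hom from Over.w φ.hom]
        exact c.property⟩
      let k : c ⟶ (pullTo a.obj.hom S).obj b := ObjectProperty.homMk (Over.homMk (𝟙 _) (by
        show 𝟙 _ ≫ φ.hom.left ≫ a.obj.hom = c.obj.hom
        rw [Category.id_comp]; exact Over.w φ.hom))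
      have eφ : φ = (sieveLE hSR).map k ≫ j.map (Fib.toId b.obj) ≫ i.hom :=
        ObjectProperty.hom_ext _ (Over.OverMorphism.ext (by
          show φ.hom.left = 𝟙 _ ≫ φ.hom.left ≫ 𝟙 _
          simp))
      have hb : Γ'.toNatTrans.app b.obj = γ.toNatTrans.app ((pullTo a.obj.hom S).obj b) :=
        congrArg (fun t => t.toNatTrans.app b) hΓ'
      rw [eφ]
      simp only [Functor.map_comp, Category.assoc]
      rw [← Functor.map_comp_assoc H.toFunctor i.hom, i.hom_inv_id, CategoryTheory.Functor.map_id, Category.id_comp]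
      have n1 : H.map (j.map (Fib.toId b.obj)) ≫ Γ'.toNatTrans.app (Over.mk (𝟙 V)) =
          γ.toNatTrans.app ((pullTo a.obj.hom S).obj b) ≫ H'.map (j.map (Fib.toId b.obj)) :=
        (Γ'.toNatTrans.naturality (Fib.toId b.obj)).trans (congrArg (· ≫ _) hb)
      have n2 : H.map ((sieveLE hSR).map k) ≫ γ.toNatTrans.app ((pullTo a.obj.hom S).obj b) =
          γ.toNatTrans.app c ≫ H'.map ((sieveLE hSR).map k) := γ.toNatTrans.naturality k
      rw [reassoc_of% n1, reassoc_of% n2]
    · rintro m ⟨hml, hmc⟩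
      haveI := hml
      haveI := hi
      haveI := hi'
      haveI : 𝒳.p.IsHomLift (𝟙 V) (H.map i.hom) := inferInstance
      haveI : 𝒳.p.IsHomLift (𝟙 V) (H'.map i.inv) := inferInstance
      haveI hn : 𝒳.p.IsHomLift (𝟙 V) (H.map i.hom ≫ m ≫ H'.map i.inv) := inferInstance
      obtain ⟨β, hβ⟩ := Fib.exists_natTrans_app_id (G := G) (H := G') hH (H.map i.hom ≫ m ≫ H'.map i.inv)
      have hβΓ : β = Γ' := by
        refine (Stk.resSieve (S.pullback a.obj.hom) 𝒳).map_injective ((Fib.hom_ext' fun b => ?_).trans hΓ'.symm)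
        show β.toNatTrans.app b.obj = γ.toNatTrans.app ((pullTo a.obj.hom S).obj b)
        haveI := Fib.map_toId_isStronglyCartesian G' hH b.obj
        haveI : 𝒳.p.IsHomLift (𝟙 b.obj.left) (β.toNatTrans.app b.obj) := BasedNatTrans.isHomLift β rfl
        haveI : 𝒳.p.IsHomLift (𝟙 b.obj.left) (γ.toNatTrans.app ((pullTo a.obj.hom S).obj b)) :=
          γ.isHomLift' ((pullTo a.obj.hom S).obj b)
        refine IsStronglyCartesian.ext 𝒳.p b.obj.hom (G'.map (Fib.toId b.obj)) (𝟙 b.obj.left) ?_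
        rw [← β.toNatTrans.naturality, hβ]
        have := hmc ((pullTo a.obj.hom S).obj b) (j.map (Fib.toId b.obj) ≫ i.hom)
        rw [Functor.map_comp, Functor.map_comp, Category.assoc] at this
        show H.map (j.map (Fib.toId b.obj)) ≫ H.map i.hom ≫ m ≫ H'.map i.inv = _
        rw [reassoc_of% this, ← Functor.map_comp, i.hom_inv_id, CategoryTheory.Functor.map_id, Category.comp_id]
        rfl
      rw [← hβΓ, hβ]
      simp [← Functor.map_comp_assoc, ← Functor.map_comp]
  haveI hTf : T.Faithful := ⟨fun {H H'} α β hab => Fib.hom_ext' fun a => by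
    refine (main H H' (T.map α) a).unique
      ⟨BasedNatTrans.isHomLift α rfl, fun c φ => α.toNatTrans.naturality φ⟩
      ⟨BasedNatTrans.isHomLift β rfl, fun c φ => ?_⟩
    rw [β.toNatTrans.naturality]
    exact congrArg (fun t => t.toNatTrans.app c ≫ H'.map φ) hab.symm⟩
  haveI hTF : T.Full := ⟨fun {H H'} γ => by
    choose m hm hu using main H H' γ
    have nat : ∀ {a b : (Stk.sieveCat R).obj} (φ : a ⟶ b), H.map φ ≫ m b = m a ≫ H'.map φ := by
      intro a b φ
      haveI : (Stk.sieveCat R).p.IsHomLift φ.hom.left φ := IsHomLift.map (Stk.sieveCat R).p φ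
      haveI := Fib.isStronglyCartesian_of_isFibGrpd _ h𝒳 φ.hom.left (H'.map φ)
      haveI := (hm b).1
      obtain ⟨x, ⟨hx, hx'⟩, -⟩ := IsStronglyCartesian.universal_property 𝒳.p φ.hom.left (H'.map φ)
        (𝟙 a.obj.left) φ.hom.left (Category.id_comp _).symm (H.map φ ≫ m b)
      haveI := hx
      suffices x = m a by rw [← this, hx']
      refine hu a x ⟨hx, fun c ψ => ?_⟩
      haveI : (Stk.sieveCat R).p.IsHomLift ψ.hom.left ψ := IsHomLift.map (Stk.sieveCat R).p ψ
      haveI : 𝒳.p.IsHomLift (𝟙 c.obj.left) (γ.toNatTrans.app c) := γ.isHomLift' c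
      haveI : 𝒳.p.IsHomLift ψ.hom.left (H.map ψ) := inferInstance
      haveI : 𝒳.p.IsHomLift ψ.hom.left (H'.map ψ) := inferInstance
      haveI : 𝒳.p.IsHomLift ψ.hom.left (γ.toNatTrans.app c ≫ H'.map ψ) := by
        have h0 : 𝒳.p.IsHomLift (𝟙 c.obj.left ≫ ψ.hom.left) (γ.toNatTrans.app c ≫ H'.map ψ) := inferInstance
        rwa [Category.id_comp] at h0
      refine IsStronglyCartesian.ext 𝒳.p φ.hom.left (H'.map φ) ψ.hom.left ?_
      rw [Category.assoc, hx', Category.assoc, ← Functor.map_comp, ← Functor.map_comp_assoc,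
        (hm b).2 c (ψ ≫ φ)]
    refine ⟨{ app := m, naturality := fun a b φ => nat φ, isHomLift' := fun a => (hm a).1 },
      Fib.hom_ext' fun c => ?_⟩
    have := (hm ((sieveLE hSR).obj c)).2 c (𝟙 _)
    rw [CategoryTheory.Functor.map_id, CategoryTheory.Functor.map_id, Category.id_comp] at this
    erw [Category.comp_id] at this
    exact this⟩
  haveI : (Stk.resSieve R 𝒳 ⋙ T).IsEquivalence := Functor.isEquivalence_of_iso sq.symm
  haveI : T.EssSurj := ⟨fun Y => ⟨_, ⟨(Stk.resSieve R 𝒳 ⋙ T).objObjPreimageIso Y⟩⟩⟩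
  haveI : T.IsEquivalence := { }
  exact Functor.isEquivalence_of_comp_right (Stk.resSieve R 𝒳) T

end Groth.Agent.StkLocal
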